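import Cfsg.Agent.AI.Defs

/-!
Groups whose non-2-closed maximal 2-local subgroups are of TI type (see notes/GM.md).
-/

set_option autoImplicit false

namespace Cfsg.Agent.GM

open Cfsg Cfsg.Agent.H49 Cfsg.Agent.AI Subgroup

universe u

variable {G : Type u} [Group G]

/-- `H` is not 2-closed. -/
def NC (H : Subgroup G) : Prop := ∃ a ∈ H, ∃ b ∈ H, Tw a ∧ Tw b ∧ ¬ Tw (a * b)

/-- Sylow 2-subgroup. -/
abbrev Sy (P M : Subgroup G) : Prop := IsSylowOf 2 P M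

/-- `Q = O₂(M)` for a non-2-closed maximal 2-local subgroup `M = N(Q)`. -/
structure Mx (Q : Subgroup G) : Prop where
  two : IsPGroup 2 Q
  ne : Q ≠ ⊥
  cent : 𝒞(Q) ≤ Q
  max : ∀ R : Subgroup G, IsPGroup 2 R → R ≠ ⊥ → 𝒩(Q) ≤ 𝒩(R) → 𝒩(R) ≤ 𝒩(Q)
  ti : ∀ P P' : Subgroup G, Sy P 𝒩(Q) → Sy P' 𝒩(Q) → ∀ x ∈ P, x ∈ P' → x ∉ Q → P = P'
  nc : NC 𝒩(Q)
  inv : ∀ x ∈ Q, x * x = 1 → ∃ P, Sy P 𝒩(Q) ∧ x ∈ 𝒞(P)

/-- The global hypothesis. -/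
def Hy (G : Type u) [Group G] : Prop :=
  ∀ R : Subgroup G, IsPGroup 2 R → R ≠ ⊥ → NC 𝒩(R) → ∃ Q, Mx Q ∧ 𝒩(R) ≤ 𝒩(Q)

/-- The elements normalizing `Q` and `Y` that act trivially on `Q / Y`. -/
def Rel (Q Y : Subgroup G) : Subgroup G where
  carrier := {g | g ∈ 𝒩(Q) ∧ g ∈ 𝒩(Y) ∧ ∀ y ∈ Q, y⁻¹ * (g * y * g⁻¹) ∈ Y}
  one_mem' := ⟨one_mem _, one_mem _, fun y _ => by simp⟩
  mul_mem' := by
    rintro a b ⟨a1, a2, a3⟩ ⟨b1, b2, b3⟩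
    refine ⟨mul_mem a1 b1, mul_mem a2 b2, fun y hy => ?_⟩
    have := mul_mem (a3 y hy) ((mem_normalizer_iff.1 a2 _).1 (b3 y hy))
    rwa [show y⁻¹ * (a * y * a⁻¹) * (a * (y⁻¹ * (b * y * b⁻¹)) * a⁻¹) =
      y⁻¹ * (a * b * y * (a * b)⁻¹) by group] at this
  inv_mem' := by
    rintro a ⟨a1, a2, a3⟩
    refine ⟨inv_mem a1, inv_mem a2, fun y hy => ?_⟩
    have := inv_mem (a3 _ ((mem_normalizer_iff.1 (inv_mem a1) y).1 hy))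
    rwa [show ((a⁻¹ * y * a⁻¹⁻¹)⁻¹ * (a * (a⁻¹ * y * a⁻¹⁻¹) * a⁻¹))⁻¹ =
      y⁻¹ * (a⁻¹ * y * a⁻¹⁻¹) by group] at this

theorem mem_Rel {Q Y : Subgroup G} {g : G} :
    g ∈ Rel Q Y ↔ g ∈ 𝒩(Q) ∧ g ∈ 𝒩(Y) ∧ ∀ y ∈ Q, y⁻¹ * (g * y * g⁻¹) ∈ Y := Iff.rfl

theorem norm_Rel {Q Y A : Subgroup G} (h1 : A ≤ 𝒩(Q)) (h2 : A ≤ 𝒩(Y)) : A ≤ 𝒩(Rel Q Y) := by
  refine le_norm_iff.2 fun a ha g hg => ⟨mul_mem (mul_mem (h1 ha) hg.1) (inv_mem (h1 ha)),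
    mul_mem (mul_mem (h2 ha) hg.2.1) (inv_mem (h2 ha)), fun y hy => ?_⟩
  have := conj_mem_of_norm h2 ha (hg.2.2 _ (conj_mem_of_norm' h1 ha hy))
  rwa [show a * ((a⁻¹ * y * a)⁻¹ * (g * (a⁻¹ * y * a) * g⁻¹)) * a⁻¹ =
    y⁻¹ * (a * g * a⁻¹ * y * (a * g * a⁻¹)⁻¹) by group] at this

theorem Rel.odd {Q Y : Subgroup G} (hY : IsPGroup 2 Y) {x : G} (ho : Odd (orderOf x))
    (h1 : x ∈ Rel Q Y) (h2 : x ∈ 𝒞(Y)) : x ∈ 𝒞(Q) := fun y hy =>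
  (fix_of_odd (μ := y⁻¹ * (x * y * x⁻¹)) ho (by rw [pow_orderOf_eq_one, one_mul, mul_one])
    (by group) (h2 _ (h1.2.2 y hy)).symm (Tw.of_mem hY (h1.2.2 y hy))).symm

theorem NC.mono {H K : Subgroup G} (h : NC H) (hK : H ≤ K) : NC K := by
  obtain ⟨a, ha, b, hb, h⟩ := h
  exact ⟨a, hK ha, b, hK hb, h⟩

theorem NC.cj {H : Subgroup G} (h : NC H) (g : G) : NC (cj g H) := by
  obtain ⟨a, ha, b, hb, h1, h2, h3⟩ := h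
  refine ⟨_, conj_mem_cj.2 ha, _, conj_mem_cj.2 hb, h1.conj g, h2.conj g, fun e => h3 ?_⟩
  have := e.conj g⁻¹
  rwa [show g⁻¹ * (g * a * g⁻¹ * (g * b * g⁻¹)) * g⁻¹⁻¹ = a * b by group] at this

theorem Mx.cj {Q : Subgroup G} (h : Mx Q) (g : G) : Mx (cj g Q) where
  two := isPGroup_cj.2 h.two
  ne := fun e => h.ne (cj_eq_bot_iff.1 e)
  cent := by rw [← cj_centralizer]; exact cj_mono g h.cent
  max := fun R h1 h2 h3 => by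
    have := h.max (H49.cj g⁻¹ R) (isPGroup_cj.2 h1) (fun e => h2 (cj_eq_bot_iff.1 e))
      (by rw [← cj_normalizer, le_cj_iff, inv_inv, cj_normalizer]; exact h3)
    rwa [← cj_normalizer, cj_le_iff, inv_inv, cj_normalizer] at this
  ti := fun P P' h1 h2 x hx hx' hn => by
    have a1 := h1.cj g⁻¹
    have a2 := h2.cj g⁻¹
    rw [cj_normalizer, cj_inv_cj] at a1 a2
    exact cj_injective g⁻¹ (h.ti _ _ a1 a2 _ (conj_mem_cj.2 hx) (conj_mem_cj.2 hx')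
      fun e => hn (mem_cj.2 (by simpa using e)))
  nc := by rw [← cj_normalizer]; exact h.nc.cj g
  inv := fun x hx h2 => by
    obtain ⟨P, h3, h4⟩ := h.inv _ (mem_cj.1 hx) (by
      rw [show g⁻¹ * x * g * (g⁻¹ * x * g) = g⁻¹ * (x * x) * g by group, h2]; group)
    refine ⟨H49.cj g P, by rw [← cj_normalizer]; exact h3.cj g, ?_⟩
    rw [← cj_centralizer]
    exact mem_cj.2 h4

theorem tw_of_odd {x : G} (h : Tw x) (ho : Odd (orderOf x)) : x = 1 :=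
  h.eq_one ho (pow_orderOf_eq_one x)

theorem two_of_tw {H : Subgroup G} (h : ∀ x ∈ H, Tw x) : IsPGroup 2 H := fun x => by
  obtain ⟨k, hk⟩ := h x x.2
  exact ⟨k, Subtype.ext hk⟩

theorem norm_Om (T : Subgroup G) : 𝒩(T) ≤ 𝒩(Om T) := fun g hg =>
  mem_norm_iff_cj.2 (by rw [cj_Om, cj_eq_of_mem_norm hg])

theorem norm_Xo (Q : Subgroup G) : 𝒩(Q) ≤ 𝒩(Xo Q 𝒩(Q)) := fun g hg =>
  mem_norm_iff_cj.2 (by rw [cj_Xo, cj_normalizer, cj_eq_of_mem_norm hg])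

variable [Finite G]

theorem pi2 {X : Subgroup G} (h : IsPGroup 2 X) : IsPi {2} X := isPi_of_isPGroup Nat.prime_two h

theorem Sy.two {P M : Subgroup G} (h : Sy P M) : IsPGroup 2 P := h.pi.isPGroup Nat.prime_two

theorem Sy.ge {P M X : Subgroup G} (h : Sy P M) (h1 : P ≤ X) (h2 : X ≤ M) (h3 : IsPGroup 2 X) :
    X ≤ P := (h.eq_of_le h1 h2 (pi2 h3)).ge

theorem two_sup {H K : Subgroup G} (h1 : IsPGroup 2 H) (h2 : IsPGroup 2 K)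
    (hn : H ≤ 𝒩(K) ∨ K ≤ 𝒩(H)) : IsPGroup 2 ↥(H ⊔ K) :=
  ((pi2 h1).sup (pi2 h2) hn).isPGroup Nat.prime_two

theorem two_of_odd {H : Subgroup G} (h : ∀ x ∈ H, Odd (orderOf x) → x = 1) : IsPGroup 2 H := by
  refine two_of_tw fun x hx => ?_
  obtain ⟨k, m, hm, e⟩ := Nat.exists_eq_two_pow_mul_odd (orderOf_pos x).ne'
  refine ⟨k, h _ (pow_mem hx _) (hm.of_dvd_nat (orderOf_dvd_of_pow_eq_one ?_))⟩
  rw [← pow_mul, ← e, pow_orderOf_eq_one]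

theorem Om_ne_bot {T : Subgroup G} (h : IsPGroup 2 T) (hne : T ≠ ⊥) : Om T ≠ ⊥ := by
  haveI : Fact (Nat.Prime 2) := ⟨Nat.prime_two⟩
  have h1 := center_ne_bot_of_nilpotent h.isNilpotent hne
  have h2 : IsPGroup 2 ↥(T ⊓ 𝒞(T)) := h.to_inf_left
  obtain ⟨p, hp, hd⟩ := exists_prime_dvd_card h1
  obtain rfl : p = 2 := (pi2 h2) p hp hd
  obtain ⟨x, hx, ho⟩ := exists_orderOf_eq_of_dvd_card hp hd
  exact ne_bot_iff_exists.2 ⟨x, ⟨hx.1, hx.2, H8.mul_self_of_orderOf_two ho⟩,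
    H8.ne_one_of_orderOf_two ho⟩

/-- A 2-element normalizing a subgroup centralized by a Sylow 2-subgroup centralizes it. -/
theorem cent_of_syl {M P Y : Subgroup G} (hP : Sy P M) (h1 : P ≤ 𝒞(Y)) {r : G} (h2 : r ∈ M)
    (h3 : r ∈ 𝒩(Y)) (h4 : Tw r) : r ∈ 𝒞(Y) := by
  have a1 : Sy P (M ⊓ 𝒩(Y)) := hP.sub (le_inf hP.le (h1.trans (cent_le_norm Y))) inf_le_left
  obtain ⟨g, hg, e⟩ := sylowOf_subJ a1 (zpowers_le_of_mem (⟨h2, h3⟩ : r ∈ M ⊓ 𝒩(Y)))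
    (pi2 h4.isPGroup)
  have := cj_le_iff.1 (e.trans h1) (mem_zpowers r)
  rwa [cj_centralizer, cj_eq_of_mem_norm (inv_mem hg.2)] at this

/-- In a 2-closed subgroup the Sylow 2-subgroup is normal. -/
theorem norm_of_not_nc {H P : Subgroup G} (h : ¬ NC H) (hP : Sy P H) : H ≤ 𝒩(P) := by
  let X : Subgroup G :=
    { carrier := {x | x ∈ H ∧ Tw x}
      one_mem' := ⟨one_mem _, 0, by simp⟩
      mul_mem' := fun {a b} ha hb => ⟨mul_mem ha.1 hb.1, by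
        by_contra e
        exact h ⟨a, ha.1, b, hb.1, ha.2, hb.2, e⟩⟩
      inv_mem' := fun {a} ha => ⟨inv_mem ha.1, ha.2.inv⟩ }
  have h1 : P ≤ X := fun x hx => ⟨hP.le hx, Tw.of_mem (Sy.two hP) hx⟩
  have h2 : X ≤ P := Sy.ge hP h1 (fun x hx => hx.1) (two_of_tw fun x hx => hx.2)
  exact le_norm_iff.2 fun a ha x hx =>
    h2 ⟨mul_mem (mul_mem ha (hP.le hx)) (inv_mem ha), (h1 hx).2.conj a⟩

theorem not_nc_of_norm {H P : Subgroup G} (hP : Sy P H) (h : H ≤ 𝒩(P)) : ¬ NC H := by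
  rintro ⟨a, ha, b, hb, h1, h2, h3⟩
  have k : ∀ c ∈ H, Tw c → c ∈ P := fun c hc e =>
    hP.le_of_normal h (zpowers_le_of_mem hc) (pi2 e.isPGroup) (mem_zpowers c)
  exact h3 (Tw.of_mem (Sy.two hP) (mul_mem (k a ha h1) (k b hb h2)))

namespace Mx

variable {Q T : Subgroup G} (h : Mx Q)
include h

theorem le_syl (hT : Sy T 𝒩(Q)) : Q ≤ T :=
  hT.le_of_norm le_normalizer (pi2 h.two) (Or.inr hT.le)

theorem le_of_mem (hT : Sy T 𝒩(Q)) {x : G} (hx : x ∈ T) (hn : x ∉ Q) {X : Subgroup G}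
    (h1 : X ≤ 𝒩(Q)) (h2 : IsPGroup 2 X) (h3 : x ∈ X) : X ≤ T := by
  obtain ⟨P, hP, e⟩ := exists_sylowOf_ge (pi2 h2) h1
  rw [h.ti T P hT hP x hx (e h3) hn]
  exact e

omit h in
theorem exists_ne (h : Mx Q) (hT : Sy T 𝒩(Q)) : ∃ P, Sy P 𝒩(Q) ∧ P ≠ T := by
  by_contra e
  push Not at e
  exact not_nc_of_norm hT (fun g hg => mem_norm_iff_cj.2 (e _ (hT.cj_of_mem hg))) h.nc

theorem exists_not_mem (hT : Sy T 𝒩(Q)) : ∃ t ∈ T, t ∉ Q := by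
  by_contra e
  push Not at e
  obtain ⟨P, hP, hne⟩ := h.exists_ne hT
  exact hne (hT.eq_of_le (le_trans e (h.le_syl hP)) hP.le hP.pi).symm

theorem o2 {R : Subgroup G} (h1 : IsPGroup 2 R) (h2 : R ≤ 𝒩(Q)) (h3 : 𝒩(Q) ≤ 𝒩(R)) : R ≤ Q := by
  obtain ⟨T, hT⟩ := exists_sylowOf 2 𝒩(Q)
  obtain ⟨P, hP, hne⟩ := h.exists_ne hT
  intro x hx
  by_contra e
  exact hne (h.ti P T hP hT x (hP.le_of_norm h2 (pi2 h1) (Or.inr (hP.le.trans h3)) hx)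
    (hT.le_of_norm h2 (pi2 h1) (Or.inr (hT.le.trans h3)) hx) e)

theorem eq_of_norm {Q' : Subgroup G} (h' : Mx Q') (e : 𝒩(Q) ≤ 𝒩(Q')) : Q = Q' := by
  have e' := h.max Q' h'.two h'.ne e
  exact le_antisymm (h'.o2 h.two (le_normalizer.trans e) e') (h.o2 h'.two (le_normalizer.trans e') e)

theorem two_of {H : Subgroup G} (hH : ∀ x ∈ H, Odd (orderOf x) → x ∈ 𝒞(Q)) : IsPGroup 2 H :=
  two_of_odd fun x hx ho => tw_of_odd (Tw.of_mem h.two (h.cent (hH x hx ho))) ho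

/-- The stabilizer of the chain `Q ≥ Y ≥ 1` is a 2-group. -/
theorem two_st {Y : Subgroup G} (hY : IsPGroup 2 Y) : IsPGroup 2 ↥(Rel Q Y ⊓ 𝒞(Y)) :=
  h.two_of fun _ hx ho => Rel.odd hY ho hx.1 hx.2

theorem st_le {Y : Subgroup G} (hY : IsPGroup 2 Y) (hn : 𝒩(Q) ≤ 𝒩(Y)) : Rel Q Y ⊓ 𝒞(Y) ≤ Q :=
  h.o2 (h.two_st hY) (fun _ hx => hx.1.1) (norm_inf (norm_Rel le_rfl hn) (norm_cent hn))

theorem mem_Om {x : G} (hx : x ∈ Q) (h2 : x * x = 1) : x ∈ Om Q := by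
  obtain ⟨P, hP, e⟩ := h.inv x hx h2
  exact ⟨hx, cent_anti (h.le_syl hP) e, h2⟩

theorem Om_le {T : Subgroup G} (hT : Q ≤ T) : Om T ≤ Om Q := fun _ hx =>
  h.mem_Om (h.cent (cent_anti hT hx.2.1)) hx.2.2

theorem norm_Om_le : 𝒩(Om Q) ≤ 𝒩(Q) :=
  h.max _ (h.two.to_le (AI.Om_le Q)) (Om_ne_bot h.two h.ne) (norm_Om Q)

/-- An involution of `Q` fixed by an element of `T` outside `Q` is central in `T`. -/
theorem fix (hT : Sy T 𝒩(Q)) {t v : G} (ht : t ∈ T) (hn : t ∉ Q) (hv : v ∈ Om Q)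
    (e : t * v = v * t) : v ∈ 𝒞(T) := by
  obtain ⟨P, hP, hc⟩ := h.inv v hv.1 hv.2.2
  have a1 : Sy P (𝒩(Q) ⊓ 𝒞[v]) := hP.sub (le_inf hP.le (le_cent1_iff.2 hc)) inf_le_left
  obtain ⟨g, hg, e'⟩ := sylowOf_Jsub a1 (zpowers_le_of_mem
    (⟨hT.le ht, mem_cent1.2 e⟩ : t ∈ 𝒩(Q) ⊓ 𝒞[v])) (pi2 (Tw.of_mem (Sy.two hT) ht).isPGroup)
  rw [h.ti T _ hT (hP.cj_of_mem hg.1) t ht (e' (mem_zpowers t)) hn]
  exact le_cent1_iff.1 ((a1.cj_of_mem hg).le.trans inf_le_right)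

end Mx

end Cfsg.Agent.GM
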