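import Cfsg.Agent.GM.Tb
import Cfsg.Agent.H42.Index2

/-!
Two maximal 2-local subgroups of non-central type with a common Sylow 2-subgroup.
-/

set_option autoImplicit false

namespace Cfsg.Agent.GM

open Cfsg Cfsg.Agent.H49 Cfsg.Agent.AI Subgroup

universe u

variable {G : Type u} [Group G]

theorem comm_of_sq {a b : G} (ha : a * a = 1) (hb : b * b = 1) (h : a * b * (a * b) = 1) :
    a * b = b * a := by
  rw [← inv_eq_of_mul_eq_one_right h, mul_inv_rev, inv_eq_of_mul_eq_one_right ha,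
    inv_eq_of_mul_eq_one_right hb]

theorem relIndex_two_of {A S : Subgroup G} {t : G} (ht : t ∈ S) (hn : t ∉ A)
    (h : ∀ x ∈ S, ∀ y ∈ S, x ∉ A → y ∉ A → x * y ∈ A) : A.relIndex S = 2 := by
  refine relIndex_eq_two_iff.2 ⟨t, ht, fun b hb => ?_⟩
  by_cases e : b ∈ A
  · exact Or.inr ⟨e, fun e' => hn (by simpa using mul_mem (inv_mem e) e')⟩
  · exact Or.inl ⟨h b hb t ht e hn, e⟩

/-- `T` is the product of its two maximal elementary abelian subgroups. -/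
structure AB (T A B : Subgroup G) : Prop where
  le1 : A ≤ T
  le2 : B ≤ T
  sq1 : ∀ a ∈ A, a * a = 1
  sq2 : ∀ b ∈ B, b * b = 1
  n1 : T ≤ 𝒩(A)
  n2 : T ≤ 𝒩(B)
  ne1 : ¬ A ≤ B
  ne2 : ¬ B ≤ A
  prod : ∀ t ∈ T, ∃ a ∈ A, ∃ b ∈ B, t = a * b
  comm : ∀ a ∈ A, ∀ b ∈ B, a * b = b * a → a ∈ B ∨ b ∈ A
  card : Nat.card A = Nat.card B

namespace AB

variable {T A B : Subgroup G} (h : AB T A B)
include h

theorem symm : AB T B A where
  le1 := h.le2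
  le2 := h.le1
  sq1 := h.sq2
  sq2 := h.sq1
  n1 := h.n2
  n2 := h.n1
  ne1 := h.ne2
  ne2 := h.ne1
  prod := fun t ht => by
    obtain ⟨a, ha, b, hb, e⟩ := h.prod _ (inv_mem ht)
    exact ⟨_, inv_mem hb, _, inv_mem ha, by rw [← mul_inv_rev, ← e, inv_inv]⟩
  comm := fun b hb a ha e => (h.comm a ha b hb e.symm).symm
  card := h.card.symm

theorem ab1 {a b : G} (ha : a ∈ A) (hb : b ∈ A) : a * b = b * a :=
  comm_of_sq (h.sq1 a ha) (h.sq1 b hb) (h.sq1 _ (mul_mem ha hb))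

theorem inv {t : G} (ht : t ∈ T) (h2 : t * t = 1) : t ∈ A ∨ t ∈ B := by
  obtain ⟨a, ha, b, hb, rfl⟩ := h.prod t ht
  rcases h.comm a ha b hb (comm_of_sq (h.sq1 a ha) (h.sq2 b hb) h2) with e | e
  · exact Or.inr (mul_mem e hb)
  · exact Or.inl (mul_mem ha e)

theorem cent_W {x : G} (h1 : x ∈ A) (h2 : x ∈ B) : x ∈ 𝒞(T) := fun t ht => by
  obtain ⟨a, ha, b, hb, rfl⟩ := h.prod t ht
  rw [mul_assoc, h.symm.ab1 hb h2, ← mul_assoc, h.ab1 ha h1, mul_assoc]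

theorem mem_of_cent {x : G} (h1 : x ∈ A) (h2 : x ∈ 𝒞(T)) : x ∈ B := by
  obtain ⟨b, hb, hn⟩ := SetLike.not_le_iff_exists.1 h.ne2
  exact (h.comm x h1 b hb (h2 b (h.le2 hb)).symm).resolve_right hn

theorem Om_eq : Om T = A ⊓ B := by
  refine le_antisymm (fun x hx => ?_) fun x hx => ⟨h.le1 hx.1, h.cent_W hx.1 hx.2, h.sq1 x hx.1⟩
  rcases h.inv hx.1 hx.2.2 with e | e
  · exact ⟨e, h.mem_of_cent e hx.2.1⟩
  · exact ⟨h.symm.mem_of_cent e hx.2.1, e⟩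

theorem le_Rel_aux : A ≤ Rel T (A ⊓ B) := fun a ha => by
  refine ⟨le_normalizer (h.le1 ha), norm_inf h.n1 h.n2 (h.le1 ha), fun y hy => ?_⟩
  obtain ⟨c, hc, b, hb, rfl⟩ := h.prod y hy
  have e : (c * b)⁻¹ * (a * (c * b) * a⁻¹) = b⁻¹ * (a * b * a⁻¹) := by
    rw [← mul_assoc a c b, h.ab1 ha hc]; group
  rw [e]
  refine mem_inf.2 ⟨?_, mul_mem (inv_mem hb) (conj_mem_of_norm h.n2 (h.le1 ha) hb)⟩
  have := mul_mem (conj_mem_of_norm' h.n1 (h.le2 hb) ha) (inv_mem ha)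
  rwa [show b⁻¹ * a * b * a⁻¹ = b⁻¹ * (a * b * a⁻¹) by group] at this

theorem comm_mem {s t : G} (hs : s ∈ T) (ht : t ∈ T) : s⁻¹ * (t * s * t⁻¹) ∈ A ⊓ B := by
  obtain ⟨a, ha, b, hb, rfl⟩ := h.prod t ht
  have h2 := h.symm.le_Rel_aux hb
  rw [inf_comm] at h2
  exact (mul_mem (h.le_Rel_aux ha) h2).2.2 s hs

theorem ea_le {C : Subgroup G} (hC : C ≤ T) (h2 : ∀ c ∈ C, c * c = 1) : C ≤ A ∨ C ≤ B := by
  by_contra e
  rw [not_or] at e
  obtain ⟨b, hb, b'⟩ := SetLike.not_le_iff_exists.1 e.1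
  obtain ⟨a, ha, a'⟩ := SetLike.not_le_iff_exists.1 e.2
  have a1 := (h.inv (hC ha) (h2 a ha)).resolve_right a'
  have b1 := (h.inv (hC hb) (h2 b hb)).resolve_left b'
  rcases h.inv (hC (mul_mem ha hb)) (h2 _ (mul_mem ha hb)) with e | e
  · exact b' (by simpa using mul_mem (inv_mem a1) e)
  · exact a' (by simpa using mul_mem e (inv_mem b1))

omit h in
theorem sq_cj {A : Subgroup G} (h : ∀ a ∈ A, a * a = 1) (g : G) : ∀ c ∈ cj g A, c * c = 1 := by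
  intro c hc
  obtain ⟨y, hy, rfl⟩ := mem_cj'.1 hc
  rw [conj_mul, h y hy]; group

theorem idx_eq : B.relIndex A = A.relIndex B ∨ Nat.card ↥(A ⊓ B) = 0 := by
  have h1 := card_inf_mul_relIndex B A
  have h2 := card_inf_mul_relIndex A B
  rw [inf_comm, h.card, ← h2] at h1
  exact mul_eq_mul_left_iff.1 h1

/-- An involution of `T` fixed by an element interchanging `A` and `B`. -/
theorem fixed {s y : G} (h1 : cj s A = B) (h2 : cj s B = A) (hy : y ∈ T) (y2 : y * y = 1)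
    (e : s * y = y * s) : y ∈ A ⊓ B := by
  have e' : s * y * s⁻¹ = y := mul_inv_eq_iff_eq_mul.2 e
  rcases h.inv hy y2 with a | a
  · exact ⟨a, by rw [← h1, ← e']; exact conj_mem_cj.2 a⟩
  · exact ⟨by rw [← h2, ← e']; exact conj_mem_cj.2 a, a⟩

variable [Finite G]

theorem idx : B.relIndex A = A.relIndex B := h.idx_eq.resolve_right (card_pos' _).ne'

theorem eq_or {g : G} (hg : cj g A ≤ T) : cj g A = A ∨ cj g A = B :=
  (h.ea_le hg (sq_cj h.sq1 g)).imp (fun e => eq_of_le_of_card_eq e (card_cj g A))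
    fun e => eq_of_le_of_card_eq e ((card_cj g A).trans h.card)

theorem perm {g : G} (hg : g ∈ 𝒩(T)) :
    (cj g A = A ∧ cj g B = B) ∨ (cj g A = B ∧ cj g B = A) := by
  rcases h.eq_or (cj_le_of_mem_norm h.le1 hg) with e | e <;>
    rcases h.symm.eq_or (cj_le_of_mem_norm h.le2 hg) with e' | e'
  · exact Or.inl ⟨e, e'⟩
  · exact absurd (cj_injective g (e.trans e'.symm)).le h.ne1
  · exact absurd (cj_injective g (e.trans e'.symm)).le h.ne1
  · exact Or.inr ⟨e, e'⟩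

theorem norm_of {g : G} (h1 : cj g A ≤ T) (h2 : cj g B ≤ T) : g ∈ 𝒩(T) :=
  mem_norm_of_cj_le fun x hx => by
    obtain ⟨y, hy, rfl⟩ := mem_cj'.1 hx
    obtain ⟨a, ha, b, hb, rfl⟩ := h.prod y hy
    rw [← conj_mul]
    exact mul_mem (h1 (conj_mem_cj.2 ha)) (h2 (conj_mem_cj.2 hb))

end AB

/-- Two maximal 2-local subgroups of non-central type with common Sylow subgroup `T`. -/
structure Pr (T A B : Subgroup G) : Prop where
  t1 : Tb A T
  t2 : Tb B T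
  ne : A ≠ B

/-- A self-centralizing four-group. -/
structure Fr (S : Subgroup G) (a z : G) : Prop where
  aS : a ∈ S
  zc : z ∈ 𝒞(S)
  a2 : a * a = 1
  z2 : z * z = 1
  nc : a ∉ 𝒞(S)
  cent : ∀ g, g * a = a * g → g * z = z * g → In4 a z g

/-- The subgroup generated by the squares. -/
def Sq (Q : Subgroup G) : Subgroup G := closure {x | ∃ y ∈ Q, x = y * y}

theorem Sq_le (Q : Subgroup G) : Sq Q ≤ Q := (closure_le _).2 (by
  rintro _ ⟨y, hy, rfl⟩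
  exact mul_mem hy hy)

variable [Finite G]

theorem norm_Sq (Q : Subgroup G) : 𝒩(Q) ≤ 𝒩(Sq Q) := fun g hg => mem_norm_of_cj_le (by
  rw [Sq, cj, MonoidHom.map_closure, closure_le]
  rintro _ ⟨_, ⟨y, hy, rfl⟩, rfl⟩
  exact subset_closure ⟨_, (mem_normalizer_iff.1 hg y).1 hy, by simp⟩)

namespace Pr

variable {T A B : Subgroup G} (h : Pr T A B)
include h

omit [Finite G] in
theorem symm : Pr T B A := ⟨h.t2, h.t1, h.ne.symm⟩

theorem nle : ¬ Om A ≤ B := fun e => by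
  have a1 : Om A ≤ Om B := fun x hx => h.t2.mx.mem_Om (e hx) hx.2.2
  have a2 : Om B ≤ Om A := fun x hx => h.t1.mx.mem_Om
    (h.t1.cent_V (h.t2.le hx.1) fun y hy => Om_comm (a1 hy) hx) hx.2.2
  refine h.ne (h.t1.mx.eq_of_norm h.t2.mx ((norm_Om A).trans ?_))
  rw [le_antisymm a1 a2]
  exact h.t2.mx.norm_Om_le

theorem inf_eq : Om A ⊓ B = Om T := by
  refine le_antisymm (fun x hx => ?_) (le_inf h.t1.W_le (h.t2.W_le.trans (Om_le B)))
  obtain ⟨b, hb, hn⟩ := SetLike.not_le_iff_exists.1 h.nle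
  exact h.t1.mem_W hx.1 (h.t2.mx.fix h.t2.syl (h.t1.le hb.1) hn
    (h.t2.mx.mem_Om hx.2 hx.1.2.2) (Om_comm hb hx.1))

theorem card_aux : Nat.card B ≤ Nat.card A := by
  have a1 := card_mul_le ((Om_le A).trans h.t1.le) h.t2.le
  rw [h.inf_eq] at a1
  exact Nat.le_of_mul_le_mul_left (a1.trans h.t1.card) (card_pos' _)

theorem card_eq : Nat.card A = Nat.card B := le_antisymm h.symm.card_aux h.card_aux

theorem isProd : IsProd (Om A) B T :=
  isProd_of_card ((Om_le A).trans h.t1.le) h.t2.le (by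
    rw [h.inf_eq, ← h.card_eq]; exact h.t1.card)

theorem Sq_aux : Sq A ≤ Sq B := (closure_le _).2 (by
  rintro _ ⟨y, hy, rfl⟩
  obtain ⟨v, hv, d, hd, rfl⟩ := h.isProd.2.2 y (h.t1.le hy)
  have hd' : d ∈ A := by simpa using mul_mem (inv_mem hv.1) hy
  refine subset_closure ⟨d, hd, ?_⟩
  rw [mul_assoc, ← mul_assoc d, hv.2.1 d hd', mul_assoc, ← mul_assoc, hv.2.2, one_mul])

theorem sq1 {a : G} (ha : a ∈ A) : a * a = 1 := by
  by_contra e
  have a1 : Sq A ≠ ⊥ := ne_bot_iff_exists.2 ⟨_, subset_closure ⟨a, ha, rfl⟩, e⟩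
  have a2 := h.t1.mx.max _ (h.t1.mx.two.to_le (Sq_le A)) a1 (norm_Sq A)
  rw [le_antisymm h.Sq_aux h.symm.Sq_aux] at a2
  exact h.ne (h.t2.mx.eq_of_norm h.t1.mx ((norm_Sq B).trans a2)).symm

theorem he : A ≤ Om A := fun _ ha => h.t1.mx.mem_Om ha (h.sq1 ha)

theorem ab : AB T A B where
  le1 := h.t1.le
  le2 := h.t2.le
  sq1 := fun _ => h.sq1
  sq2 := fun _ => h.symm.sq1
  n1 := h.t1.norm
  n2 := h.t2.norm
  ne1 := fun e => h.nle ((Om_le A).trans e)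
  ne2 := fun e => h.symm.nle ((Om_le B).trans e)
  prod := fun t ht => by
    obtain ⟨a, ha, b, hb, e⟩ := h.isProd.2.2 t ht
    exact ⟨a, ha.1, b, hb, e⟩
  comm := fun a ha b hb e => by
    by_contra hn
    rw [not_or] at hn
    exact hn.1 ((h.t2.W_le (h.t1.mem_W (h.he ha)
      (h.t1.mx.fix h.t1.syl (h.t2.le hb) hn.2 (h.he ha) e.symm))).1)
  card := h.card_eq

theorem i2 (h2 : B.relIndex A = 2) : Tb.I2 A T := fun x hx y hy h3 h4 =>
  h.ab.cent_W (mul_mem hx.1 hy.1) ((H42.mul_mem_iff_of_relIndex_two h2 hx.1 hy.1).2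
    ⟨fun e => absurd (h.ab.cent_W hx.1 e) h3, fun e => absurd (h.ab.cent_W hy.1 e) h4⟩)

theorem Xo_le : Xo A 𝒩(A) ≤ Om T := fun _ hx =>
  h.t1.mem_W (h.he hx.1) (h.t1.Xo_le_cent h.t1.syl hx)

theorem norm_inf_Xo : 𝒩(A) ≤ 𝒩(Xo A 𝒩(A) ⊓ Xo B 𝒩(B)) := by
  have a1 : Sy T (𝒩(A) ⊓ 𝒞(Xo A 𝒩(A))) :=
    h.t1.syl.sub (le_inf h.t1.norm (cent_symm (h.t1.Xo_le_cent h.t1.syl))) inf_le_left
  have a2 := (frattini_arg inf_le_left
    (norm_inf (norm_norm le_rfl) (norm_cent (norm_Xo A))) a1).sup_eq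
  refine a2.symm.le.trans (sup_le (inf_le_right.trans ((cent_anti inf_le_left).trans
    (cent_le_norm _))) (norm_inf (inf_le_left.trans (norm_Xo A)) (le_trans ?_ (norm_Xo B))))
  intro g hg
  rcases h.ab.perm hg.2 with e | e
  · exact mem_norm_iff_cj.2 e.2
  · exact absurd ((cj_eq_of_mem_norm hg.1).symm.trans e.1) h.ne

theorem inf_bot : Xo A 𝒩(A) ⊓ Xo B 𝒩(B) = ⊥ := by
  by_contra e
  have a1 := h.t1.mx.max _ (h.t1.mx.two.to_le (inf_le_left.trans (AI.Xo_le _ _))) e h.norm_inf_Xo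
  have a2 := h.symm.norm_inf_Xo
  rw [inf_comm] at a2
  exact h.ne (h.t2.mx.eq_of_norm h.t1.mx (a2.trans a1)).symm

theorem Xo_bot {c : G} (h1 : c ∉ 𝒩(A)) (h2 : c ∈ 𝒞(Om T)) : Xo A 𝒩(A) = ⊥ := by
  by_contra e
  exact h1 (h.t1.mx.max _ (h.t1.mx.two.to_le (AI.Xo_le _ _)) e (norm_Xo A)
    (cent_le_norm _ (cent_anti h.Xo_le h2)))

theorem fr (h2 : B.relIndex A = 2) (h0 : Xo A 𝒩(A) = ⊥) {S : Subgroup G} (hT : T ≤ S)
    (hS : IsPGroup 2 S) : ∃ a z, Fr S a z := by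
  obtain ⟨a, ha, hc⟩ := h.t1.exists_v
  obtain ⟨t, ht, hn⟩ := h.t1.mx.exists_not_mem h.t1.syl
  have z1 := h.t1.quad ht ha
  have z2 := h.t1.cm_not_Xo ht hn ha hc
  have hW : ∀ w ∈ Om T, w = 1 ∨ w = cm t a := fun w hw => by
    by_cases e : w = 1
    · exact Or.inl e
    have := h.t1.Xo_idx h.he (h.i2 h2) hw z1 (by rwa [h0, mem_bot]) z2
    rw [h0, mem_bot] at this
    exact Or.inr (by rw [eq_inv_of_mul_eq_one_left this, inv_eq_of_mul_eq_one_right z1.2.2])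
  have hA : ∀ x ∈ A, In4 a (cm t a) x := fun x hx => by
    by_cases e : x ∈ 𝒞(T)
    · exact (hW x (h.t1.mem_W (h.he hx) e)).elim Or.inl fun e => Or.inr (Or.inl e)
    have e' : x = a * (a * x) := by rw [← mul_assoc, ha.2.2, one_mul]
    rcases hW _ (h.t1.mem_W (mul_mem ha (h.he hx)) (h.i2 h2 a ha x (h.he hx) hc e)) with k | k
    · exact Or.inr (Or.inr (Or.inl (by rw [e', k, mul_one])))
    · exact Or.inr (Or.inr (Or.inr (by rw [e', k])))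
  obtain ⟨z, hz, hz1⟩ := ne_bot_iff_exists.1 (Om_ne_bot hS
    (ne_bot_mono (h.t1.le.trans hT) h.t1.mx.ne))
  have z3 : z = cm t a := (hW z (h.t1.mem_W (h.t1.mx.Om_le (h.t1.le.trans hT) hz)
    (cent_anti hT hz.2.1))).resolve_left hz1
  refine ⟨a, cm t a, hT (h.t1.le ha.1), z3 ▸ hz.2.1, ha.2.2, z1.2.2,
    fun e => hc (cent_anti hT e), fun g g1 g2 => hA g (h.t1.mx.cent fun x hx => ?_)⟩
  rcases hA x hx with rfl | rfl | rfl | rfl
  · rw [one_mul, mul_one]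
  · exact g2.symm
  · exact g1.symm
  · rw [mul_assoc, ← g2, ← mul_assoc, ← g1, mul_assoc]

end Pr

end Cfsg.Agent.GM
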