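import Cfsg.Agent.GM.Defs

/-!
The non-central case: `Ω₁(Q)` is not central in the Sylow 2-subgroup `T` of `N(Q)`.
-/

set_option autoImplicit false

namespace Cfsg.Agent.GM

open Cfsg Cfsg.Agent.H49 Cfsg.Agent.AI Subgroup

universe u

variable {G : Type u} [Group G]

/-- The commutator of an involution `v` with `t`. -/
def cm (t v : G) : G := v * (t * v * t⁻¹)

theorem Om_comm {Q : Subgroup G} {a b : G} (ha : a ∈ Om Q) (hb : b ∈ Om Q) : a * b = b * a :=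
  hb.2.1 a ha.1

theorem conj_Om {Q : Subgroup G} {t v : G} (ht : t ∈ 𝒩(Q)) (hv : v ∈ Om Q) :
    t * v * t⁻¹ ∈ Om Q := conj_mem_of_norm (norm_Om Q) ht hv

theorem cm_mem {Q : Subgroup G} {t v : G} (ht : t ∈ 𝒩(Q)) (hv : v ∈ Om Q) : cm t v ∈ Om Q :=
  mul_mem hv (conj_Om ht hv)

theorem cm_eq_one {t v : G} (hv : v * v = 1) : cm t v = 1 ↔ t * v = v * t := by
  rw [cm, mul_eq_one_iff_inv_eq, inv_eq_of_mul_eq_one_right hv, eq_mul_inv_iff_mul_eq, eq_comm]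

theorem conj_eq_cm {t v : G} (hv : v * v = 1) : t * v * t⁻¹ = v * cm t v := by
  rw [cm, ← mul_assoc v v, hv, one_mul]

theorem cm_cm {t v : G} (hv : v * v = 1) : cm t (cm t v) = cm (t * t) v := by
  calc cm t (cm t v) = v * (t * (v * v) * t⁻¹) * (t * t * v * (t * t)⁻¹) := by
        simp only [cm]; group
    _ = _ := by rw [hv, cm]; group

theorem cm_mul {Q : Subgroup G} {t v w : G} (ht : t ∈ 𝒩(Q)) (hv : v ∈ Om Q) (hw : w ∈ Om Q) :
    cm t (v * w) = cm t v * cm t w := by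
  have := Om_comm hw (conj_Om ht hv)
  calc cm t (v * w) = v * (w * (t * v * t⁻¹)) * (t * w * t⁻¹) := by simp only [cm]; group
    _ = _ := by rw [this]; simp only [cm]; group

theorem conj_cm (g t v : G) : g * cm t v * g⁻¹ = cm (g * t * g⁻¹) (g * v * g⁻¹) := by
  simp only [cm]; group

/-- If `t * t` centralizes `v` then `t` fixes the commutator. -/
theorem comm_cm {Q : Subgroup G} {t v : G} (ht : t ∈ 𝒩(Q)) (hv : v ∈ Om Q) (h2 : t * t ∈ Q) :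
    t * cm t v = cm t v * t := by
  rw [← cm_eq_one (cm_mem ht hv).2.2, cm_cm hv.2.2, cm_eq_one hv.2.2]
  exact hv.2.1 _ h2

/-- The non-central case. -/
structure Tb (Q T : Subgroup G) : Prop where
  mx : Mx Q
  syl : Sy T 𝒩(Q)
  nb : ¬ Om Q ≤ 𝒞(T)

theorem Tb.cj {Q T : Subgroup G} (h : Tb Q T) (g : G) : Tb (cj g Q) (cj g T) :=
  ⟨h.mx.cj g, by rw [← cj_normalizer]; exact h.syl.cj g,
    by rw [← cj_Om, ← cj_centralizer, cj_le_cj_iff]; exact h.nb⟩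

variable [Finite G]

namespace Tb

variable {Q T : Subgroup G} (h : Tb Q T)
include h

theorem le : Q ≤ T := h.mx.le_syl h.syl

theorem two : IsPGroup 2 T := Sy.two h.syl

theorem norm : T ≤ 𝒩(Q) := h.syl.le

theorem other {P : Subgroup G} (hP : Sy P 𝒩(Q)) : Tb Q P := by
  obtain ⟨g, hg, rfl⟩ := sylowOf_conj h.syl hP
  have := h.cj g
  rwa [cj_eq_of_mem_norm hg] at this

theorem exists_v : ∃ v ∈ Om Q, v ∉ 𝒞(T) := by
  by_contra e
  push Not at e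
  exact h.nb e

theorem cent_V {t : G} (ht : t ∈ T) (hc : t ∈ 𝒞(Om Q)) : t ∈ Q := by
  by_contra e
  exact h.nb fun v hv => h.mx.fix h.syl ht e hv (hc v hv).symm

theorem mem_W {v : G} (hv : v ∈ Om Q) (hc : v ∈ 𝒞(T)) : v ∈ Om T := ⟨h.le hv.1, hc, hv.2.2⟩

theorem W_le : Om T ≤ Om Q := h.mx.Om_le h.le

theorem sq_aux {s : G} (hs : s ∈ T) (h4 : s * s * (s * s) ∈ Q) : s * s ∈ Q := by
  by_contra h2
  obtain ⟨v, hv, hc⟩ := h.exists_v
  have hu : s * s ∈ T := mul_mem hs hs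
  have a1 : cm s (cm s v) ∈ 𝒞(T) := by
    rw [cm_cm hv.2.2]
    exact h.mx.fix h.syl hu h2 (cm_mem (h.norm hu) hv) (comm_cm (h.norm hu) hv h4)
  have v1 := cm_mem (h.norm hs) hv
  have a2 : cm s v ∈ 𝒞(T) := by
    refine h.mx.fix h.syl hu h2 v1 ?_
    rw [← cm_eq_one v1.2.2, ← cm_cm v1.2.2, cm_eq_one (cm_mem (h.norm hs) v1).2.2]
    exact a1 s hs
  refine hc (h.mx.fix h.syl hu h2 hv ?_)
  rw [← cm_eq_one hv.2.2, ← cm_cm hv.2.2, cm_eq_one v1.2.2]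
  exact a2 s hs

theorem sq {t : G} (ht : t ∈ T) : t * t ∈ Q := by
  have key : ∀ k : ℕ, ∀ t ∈ T, t ^ 2 ^ (k + 1) ∈ Q → t * t ∈ Q := by
    intro k
    induction k with
    | zero => intro t _ e; simpa [pow_two] using e
    | succ k ih =>
      intro t ht e
      refine h.sq_aux ht (ih _ (mul_mem ht ht) ?_)
      rwa [← pow_two, ← pow_mul, ← pow_succ']
  obtain ⟨k, hk⟩ := Tw.of_mem h.two ht
  refine key k t ht ?_
  rw [pow_succ, pow_mul, hk, one_pow]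
  exact one_mem _

theorem quad {t v : G} (ht : t ∈ T) (hv : v ∈ Om Q) : cm t v ∈ Om T := by
  by_cases e : t ∈ Q
  · rw [(cm_eq_one hv.2.2).2 (hv.2.1 t e)]
    exact one_mem _
  · exact h.mem_W (cm_mem (h.norm ht) hv) (h.mx.fix h.syl ht e (cm_mem (h.norm ht) hv)
      (comm_cm (h.norm ht) hv (h.sq ht)))

theorem cm_mul_left {s t v : G} (hs : s ∈ T) (ht : t ∈ T) (hv : v ∈ Om Q) :
    cm (s * t) v = cm s v * cm t v := by
  have := (h.quad ht hv).2.1 s hs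
  calc cm (s * t) v = v * (s * (t * v * t⁻¹) * s⁻¹) := by simp only [cm]; group
    _ = v * (s * v * s⁻¹) * (s * cm t v * s⁻¹) := by rw [conj_eq_cm hv.2.2]; group
    _ = _ := by rw [this, mul_inv_cancel_right]; rfl

theorem cm_inv {t v : G} (ht : t ∈ T) (hv : v ∈ Om Q) : cm t⁻¹ v = cm t v := by
  have h1 := h.cm_mul_left (inv_mem ht) ht hv
  rw [inv_mul_cancel, (cm_eq_one hv.2.2).2 (by rw [one_mul, mul_one])] at h1
  rw [eq_inv_of_mul_eq_one_left h1.symm, inv_eq_of_mul_eq_one_right (h.quad ht hv).2.2]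

/-- The commutators of `T` with a vector fixed by another Sylow subgroup `P` are not fixed
by `P`. -/
theorem inj {P : Subgroup G} (hP : Sy P 𝒩(Q)) {w r : G} (hw : w ∈ Om Q) (h1 : w ∈ 𝒞(P))
    (h2 : w ∉ 𝒞(T)) (hr : r ∈ T) (h3 : cm r w ∈ 𝒞(P)) : r ∈ Q := by
  by_contra e
  have q := h.quad hr hw
  have a1 : r ∈ 𝒞(zpowers w ⊔ zpowers (cm r w)) := by
    refine cent_of_syl hP ?_ (h.norm hr) (mem_norm_of_cj_le ?_) (Tw.of_mem h.two hr)
    · rw [cent_sup, cent_zpowers, cent_zpowers]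
      exact le_inf (le_cent1_iff.2 h1) (le_cent1_iff.2 h3)
    · rw [cj_sup, cj_zpowers, cj_zpowers, conj_eq_cm hw.2.2, q.2.1 r hr, mul_inv_cancel_right]
      exact sup_le (zpowers_le_of_mem (mul_mem (mem_sup_left (mem_zpowers _))
        (mem_sup_right (mem_zpowers _)))) le_sup_right
  exact h2 (h.mx.fix h.syl hr e hw (a1 w (mem_sup_left (mem_zpowers _))).symm)

theorem card : Nat.card T * Nat.card (Om T) ≤ Nat.card (Om Q) * Nat.card Q := by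
  obtain ⟨w, hw, hc⟩ := h.exists_v
  obtain ⟨P, hP, hwP⟩ := h.mx.inv w hw.1 hw.2.2
  have hP' := h.other hP
  let f : T ⧸ Q.subgroupOf T → Om Q ⧸ (Om P).subgroupOf (Om Q) := fun c =>
    QuotientGroup.mk ⟨cm c.out w, cm_mem (h.norm c.out.2) hw⟩
  have hf : Function.Injective f := fun c d e => by
    have e1 : (cm (c.out : G) w)⁻¹ * cm (d.out : G) w ∈ Om P :=
      mem_subgroupOf.1 (QuotientGroup.eq.1 e)
    rw [inv_eq_of_mul_eq_one_right (h.quad c.out.2 hw).2.2, ← h.cm_inv c.out.2 hw,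
      ← h.cm_mul_left (inv_mem c.out.2) d.out.2 hw] at e1
    have e2 := h.inj hP hw hwP hc (mul_mem (inv_mem c.out.2) d.out.2) e1.2.1
    rw [← QuotientGroup.out_eq' c, ← QuotientGroup.out_eq' d]
    exact QuotientGroup.eq.2 e2
  have a1 : Q.relIndex T ≤ (Om P).relIndex (Om Q) := Nat.card_le_card_of_injective f hf
  obtain ⟨g, -, rfl⟩ := sylowOf_conj h.syl hP
  rw [← card_mul_relIndex h.le, ← card_mul_relIndex hP'.W_le, ← cj_Om, card_cj, cj_Om]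
  calc Nat.card Q * Q.relIndex T * Nat.card (Om T)
      ≤ Nat.card Q * (Om (H49.cj g T)).relIndex (Om Q) * Nat.card (Om T) := by gcongr
    _ = _ := by ring

/-- `C_V(T)` has index two in `V`. -/
def I2 (Q T : Subgroup G) : Prop :=
  ∀ x ∈ Om Q, ∀ y ∈ Om Q, x ∉ 𝒞(T) → y ∉ 𝒞(T) → x * y ∈ 𝒞(T)

omit h in
theorem I2.other (h : Tb Q T) (h2 : I2 Q T) {P : Subgroup G} (hP : Sy P 𝒩(Q)) : I2 Q P := by
  obtain ⟨g, hg, rfl⟩ := sylowOf_conj h.syl hP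
  intro x hx y hy h3 h4
  rw [← cj_centralizer, mem_cj] at h3 h4 ⊢
  have := h2 _ (conj_mem_of_norm' (norm_Om Q) hg hx) _ (conj_mem_of_norm' (norm_Om Q) hg hy) h3 h4
  rwa [show g⁻¹ * x * g * (g⁻¹ * y * g) = g⁻¹ * (x * y) * g by group] at this

theorem cm_const (h2 : I2 Q T) {t v w : G} (ht : t ∈ T) (hv : v ∈ Om Q) (hw : w ∈ Om Q)
    (h3 : v ∉ 𝒞(T)) (h4 : w ∉ 𝒞(T)) : cm t v = cm t w := by
  have a1 := cm_mul (h.norm ht) hv hw
  rw [(cm_eq_one (mul_mem hv hw).2.2).2 (h2 v hv w hw h3 h4 t ht)] at a1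
  rw [eq_inv_of_mul_eq_one_left a1.symm, inv_eq_of_mul_eq_one_right (h.quad ht hw).2.2]

theorem not_fix (he : Q ≤ Om Q) (h2 : I2 Q T) {P : Subgroup G} (hP : Sy P 𝒩(Q)) (hne : P ≠ T)
    {t v : G} (ht : t ∈ T) (hn : t ∉ Q) (hv : v ∈ Om Q) (h3 : v ∉ 𝒞(T)) : cm t v ∉ 𝒞(P) := by
  by_cases e : ∃ w ∈ Om Q, w ∈ 𝒞(P) ∧ w ∉ 𝒞(T)
  · obtain ⟨w, hw, h4, h5⟩ := e
    rw [h.cm_const h2 ht hv hw h3 h5]
    exact fun h6 => hn (h.inj hP hw h4 h5 ht h6)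
  push Not at e
  have hP' := h.other hP
  have a1 : Om T ≤ 𝒞(P) := fun x hx => by
    by_contra h4
    have h5 := e _ (mul_mem (h.W_le hx) hv)
      (I2.other h h2 hP x (h.W_le hx) v hv h4 fun h5 => h3 (e v hv h5))
    exact h3 (by simpa using mul_mem (inv_mem hx.2.1) h5)
  have a2 : ∀ R : Subgroup G, Tb Q R → Om T ≤ 𝒞(R) → Om R ≤ Om T → R ≤ Rel Q (Om T) ⊓ 𝒞(Om T) :=
    fun R hR b1 b2 r hr => ⟨⟨hR.norm hr, cent_le_norm _ (cent_symm b1 hr), fun y hy => by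
      rw [inv_eq_of_mul_eq_one_right (he hy).2.2]
      exact b2 (hR.quad hr (he hy))⟩, cent_symm b1 hr⟩
  have a3 := h.mx.two_st (h.two.to_le (AI.Om_le T))
  have a4 := Sy.ge h.syl (a2 T h (Om_le_cent T) le_rfl) (fun _ hx => hx.1.1) a3
  exact absurd (hP.eq_of_le ((a2 P hP' a1 fun x hx =>
    h.mem_W (hP'.W_le hx) (e x (hP'.W_le hx) hx.2.1)).trans a4) h.norm h.syl.pi) hne

/-- Three conjugate transvections. -/
theorem mem_Xo_of (he : Q ≤ Om Q) (h2 : I2 Q T) {P : Subgroup G} (hP : Sy P 𝒩(Q)) (hne : P ≠ T)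
    {u : G} (h3 : u ∈ Om T) (h4 : u ∈ 𝒞(P)) : u ∈ Xo Q 𝒩(Q) := by
  have key : ∀ R, Sy R 𝒩(Q) → u ∈ 𝒞(R) := fun R hR => by
    by_contra hu
    have hP' := h.other hP
    obtain ⟨t, ht, htn⟩ := h.mx.exists_not_mem h.syl
    obtain ⟨s, hs, hsn⟩ := h.mx.exists_not_mem hP
    obtain ⟨v, hv, hvn⟩ := hP'.exists_v
    have i2 := I2.other h h2 hP
    have z2 := cm_mem (hP'.norm hs) hv
    have n1 : R ≠ T := fun e => hu (e ▸ h3.2.1)
    have n2 : R ≠ P := fun e => hu (e ▸ h4)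
    have n3 : R ≠ H49.cj t P := fun e => hu (by
      rw [e, ← cj_centralizer, mem_cj, mul_assoc, ← h3.2.1 t ht, inv_mul_cancel_left]
      exact h4)
    have hP2 := hP.cj_of_mem (h.norm ht)
    have b1 := h.not_fix he h2 hR n1 ht htn z2
      (hP'.not_fix he i2 h.syl hne.symm hs hsn hv hvn)
    have b2 := hP'.not_fix he i2 hR n2 hs hsn hv hvn
    have b3 := (h.other hP2).not_fix he (I2.other h h2 hP2) hR n3 (conj_mem_cj.2 hs)
      (fun e => hsn ((mem_normalizer_iff.1 (h.norm ht) s).2 e)) (conj_Om (h.norm ht) hv)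
      (by rw [← cj_centralizer, conj_mem_cj]; exact hvn)
    rw [← conj_cm] at b3
    exact b1 (I2.other h h2 hR _ z2 _ (conj_Om (h.norm ht) z2) b2 b3)
  refine ⟨(h.W_le h3).1, fun t ht h5 => ?_⟩
  obtain ⟨R, hR, e⟩ := exists_sylowOf_ge (pi2 h5.isPGroup) (zpowers_le_of_mem ht)
  exact key R hR t (e (mem_zpowers t))

theorem Xo_le_cent {P : Subgroup G} (hP : Sy P 𝒩(Q)) : Xo Q 𝒩(Q) ≤ 𝒞(P) := fun _ hx t ht =>
  hx.2 t (hP.le ht) (Tw.of_mem (Sy.two hP) ht)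

theorem Xo_idx (he : Q ≤ Om Q) (h2 : I2 Q T) {a b : G} (ha : a ∈ Om T) (hb : b ∈ Om T)
    (h3 : a ∉ Xo Q 𝒩(Q)) (h4 : b ∉ Xo Q 𝒩(Q)) : a * b ∈ Xo Q 𝒩(Q) := by
  obtain ⟨P, hP, hne⟩ := h.mx.exists_ne h.syl
  exact h.mem_Xo_of he h2 hP hne (mul_mem ha hb) (I2.other h h2 hP a (h.W_le ha) b (h.W_le hb)
    (fun e => h3 (h.mem_Xo_of he h2 hP hne ha e)) fun e => h4 (h.mem_Xo_of he h2 hP hne hb e))

theorem cm_not_Xo {t v : G} (ht : t ∈ T) (hn : t ∉ Q) (hv : v ∈ Om Q) (h3 : v ∉ 𝒞(T)) :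
    cm t v ∉ Xo Q 𝒩(Q) := fun e => by
  obtain ⟨P, hP, hc⟩ := h.mx.inv v hv.1 hv.2.2
  exact hn (h.inj hP hv hc h3 ht (h.Xo_le_cent hP e))

/-- The commutator is conjugate to an element outside the centre of `T`. -/
theorem exists_conj (he : Q ≤ Om Q) (h2 : I2 Q T) {t v : G} (ht : t ∈ T) (hn : t ∉ Q)
    (hv : v ∈ Om Q) (h3 : v ∉ 𝒞(T)) :
    ∃ y ∈ Q, y ∉ 𝒞(T) ∧ ∃ g : G, g * cm t v * g⁻¹ = y := by
  obtain ⟨P, hP, hne⟩ := h.mx.exists_ne h.syl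
  obtain ⟨g, hg, rfl⟩ := sylowOf_conj h.syl hP
  refine ⟨_, (conj_Om hg (cm_mem (h.norm ht) hv)).1, ?_, g, rfl⟩
  rw [conj_cm]
  exact (h.other hP).not_fix he (I2.other h h2 hP) h.syl hne.symm (conj_mem_cj.2 ht)
    (fun e => hn ((mem_normalizer_iff.1 hg t).2 e)) (conj_Om hg hv)
    (by rw [← cj_centralizer, conj_mem_cj]; exact h3)

end Tb

end Cfsg.Agent.GM
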